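import Cfsg.Agent.Lib.Spor.JFourType.Pgl.Perm
import Mathlib.Topology.Compactification.OnePoint.ProjectiveLine
import Mathlib.LinearAlgebra.Matrix.GeneralLinearGroup.Card

/-!
The group of all projective maps over the residues modulo 23 is the projective group extended by `t ↦ -t`.
-/

set_option autoImplicit false
set_option maxRecDepth 100000
set_option Elab.async false
set_option linter.style.haveILetI false

open Cfsg Cfsg.Agent.Spor.Golay Cfsg.Agent.Spor.Golay.Census
open scoped OnePoint

namespace Cfsg.Agent.Spor.JFour.Pgl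

open Psl23Max

/-- The projective group with the map `t ↦ -t`. -/
noncomputable def extGrp : Subgroup (Equiv.Perm GolayPt) := projGrp ⊔ Subgroup.zpowers (permOf negP)

/-- A projective map. -/
def mob (a b c d : ZMod 23) : GolayPt → GolayPt
  | none => if c = 0 then none else some (a * c ^ 21)
  | some k => if c * k + d = 0 then none else some ((a * k + b) * (c * k + d) ^ 21)

theorem inv_eq_pow : ∀ x : ZMod 23, x ≠ 0 → x ^ 21 * x = 1 := by decide +kernel

theorem fact23 : Fact (Nat.Prime 23) := ⟨by norm_num⟩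

attribute [local instance] fact23

theorem div_eq_pow {x y : ZMod 23} (hy : y ≠ 0) : x / y = x * y ^ 21 := by
  rw [div_eq_iff hy, mul_assoc, inv_eq_pow y hy, mul_one]

/-- The action on the projective line. -/
noncomputable def phi : GL (Fin 2) (ZMod 23) →* Equiv.Perm GolayPt :=
  MulAction.toPermHom (GL (Fin 2) (ZMod 23)) (OnePoint (ZMod 23))

theorem phi_apply (g : GL (Fin 2) (ZMod 23)) (p : GolayPt) :
    phi g p = mob (g 0 0) (g 0 1) (g 1 0) (g 1 1) p := by
  cases p with
  | none =>
    show g • (OnePoint.infty : OnePoint (ZMod 23)) = _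
    rw [OnePoint.smul_infty_eq_ite]
    show _ = if g 1 0 = 0 then none else some (g 0 0 * g 1 0 ^ 21)
    by_cases h : g 1 0 = 0
    · rw [if_pos h, if_pos h]; rfl
    · rw [if_neg h, if_neg h, div_eq_pow h]; rfl
  | some k =>
    show g • ((k : ZMod 23) : OnePoint (ZMod 23)) = _
    rw [OnePoint.smul_some_eq_ite]
    show _ = if g 1 0 * k + g 1 1 = 0 then none else some ((g 0 0 * k + g 0 1) * (g 1 0 * k + g 1 1) ^ 21)
    by_cases h : g 1 0 * k + g 1 1 = 0
    · rw [if_pos h, if_pos h]; rfl
    · rw [if_neg h, if_neg h, div_eq_pow h]; rfl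

theorem mob_checks : (∀ i < 24, idx (mob 1 1 0 1 (pt i)) = get (affP 0 1) i) ∧
    (∀ i < 24, idx (mob 2 0 0 1 (pt i)) = get (affP 1 0) i) ∧
    (∀ i < 24, idx (mob 0 (-1) 1 0 (pt i)) = get invP i) ∧
    (∀ i < 24, idx (mob (-1) 0 0 1 (pt i)) = get negP i) ∧
    Matrix.det !![(1 : ZMod 23), 1; 0, 1] ≠ 0 ∧ Matrix.det !![(2 : ZMod 23), 0; 0, 1] ≠ 0 ∧
    Matrix.det !![(0 : ZMod 23), -1; 1, 0] ≠ 0 ∧ Matrix.det !![(-1 : ZMod 23), 0; 0, 1] ≠ 0 := by
  decide +kernel

attribute [local irreducible] affP negP mob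

theorem mem_range_phi {M : Matrix (Fin 2) (Fin 2) (ZMod 23)} (hd : M.det ≠ 0) {P : ℕ} (hv : valid P = true)
    (h : ∀ i < 24, idx (mob (M 0 0) (M 0 1) (M 1 0) (M 1 1) (pt i)) = get P i) : permOf P ∈ phi.range := by
  refine ⟨Matrix.GeneralLinearGroup.mkOfDetNeZero M hd, ?_⟩
  refine Equiv.ext fun p => idx_injective ?_
  rw [phi_apply, idx_permOf hv, ← h (idx p) (idx_lt p), pt_idx]
  rfl

theorem extGrp_le : extGrp ≤ phi.range := by
  obtain ⟨h1, h2, h3, h4, d1, d2, d3, d4⟩ := mob_checks
  refine sup_le ((Subgroup.closure_le _).2 ?_) (Subgroup.zpowers_le.2 (mem_range_phi d4 neg_check.2 h4))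
  rintro g (rfl | rfl | rfl)
  · exact mem_range_phi d1 (aff_valid (by norm_num) (by norm_num)) h1
  · exact mem_range_phi d2 (aff_valid (by norm_num) (by norm_num)) h2
  · exact mem_range_phi d3 inv_valid h3

theorem phi_ker : phi.ker = Subgroup.center (GL (Fin 2) (ZMod 23)) := by
  ext g
  rw [MonoidHom.mem_ker, Matrix.GeneralLinearGroup.mem_center_iff_val_mem_range_scalar]
  constructor
  · intro h
    have hp : ∀ p, phi g p = p := fun p => by rw [h]; rfl
    have e0 := hp none
    have e1 := hp (some (0 : ZMod 23))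
    have e2 := hp (some (1 : ZMod 23))
    rw [phi_apply] at e0 e1 e2
    simp only [mob] at e0 e1 e2
    by_cases hc : g 1 0 = 0
    swap
    · rw [if_neg hc] at e0; exact absurd e0 (by simp)
    rw [hc, zero_mul, zero_add] at e1 e2
    by_cases hd : g 1 1 = 0
    · rw [if_pos hd] at e1; exact absurd e1 (by simp)
    rw [if_neg hd, Option.some.injEq, mul_zero, zero_add] at e1
    have hb : g 0 1 = 0 := (mul_eq_zero.1 e1).resolve_right (pow_ne_zero _ hd)
    rw [if_neg hd, Option.some.injEq, hb, add_zero, mul_one] at e2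
    have ha : g 0 0 = g 1 1 := by
      calc g 0 0 = g 0 0 * (g 1 1 ^ 21 * g 1 1) := by rw [inv_eq_pow _ hd, mul_one]
        _ = g 1 1 := by rw [← mul_assoc, e2, one_mul]
    refine ⟨g 1 1, Matrix.ext fun i j => ?_⟩
    fin_cases i <;> fin_cases j <;> simp [ha, hb, hc]
  · rintro ⟨a, ha⟩
    refine Equiv.ext fun p => ?_
    have e : ∀ i j, g i j = if i = j then a else 0 := fun i j => by
      rw [← ha, Matrix.scalar_apply, Matrix.diagonal_apply]
    have ha0 : a ≠ 0 := fun h0 => by
      have := g.det_ne_zero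
      rw [Matrix.det_fin_two, e, e, e, e, h0] at this
      simp at this
    rw [phi_apply, e, e, e, e, Equiv.Perm.one_apply]
    simp only [Fin.isValue, zero_ne_one, one_ne_zero, if_true, if_false]
    unfold mob
    cases p with
    | none => simp
    | some k =>
      simp only [zero_mul, zero_add, if_neg ha0, add_zero, Option.some.injEq]
      rw [mul_comm a k, mul_assoc, mul_comm a, inv_eq_pow a ha0, mul_one]

theorem card_range_phi : Nat.card ↥phi.range = 12144 := by
  have h := phi.ker.index_mul_card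
  rw [Subgroup.index_ker, phi_ker, Matrix.card_GL_field, Matrix.GeneralLinearGroup.center_eq_range_scalar] at h
  have hinj : Function.Injective (Matrix.GeneralLinearGroup.scalar (R := ZMod 23) (Fin 2)) := fun a b e => by
    have := congrArg (fun g : GL (Fin 2) (ZMod 23) => g 0 0) e
    refine Units.ext ?_
    simpa using this
  have hc : Nat.card ↥(Matrix.GeneralLinearGroup.scalar (R := ZMod 23) (Fin 2)).range = 22 := by
    rw [← Nat.card_congr (MonoidHom.ofInjective hinj).toEquiv, Nat.card_units, Nat.card_zmod]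
  rw [hc, Fintype.card_eq_nat_card, Nat.card_zmod] at h
  simp only [Fin.prod_univ_two, Fin.val_zero, Fin.val_one, pow_zero, pow_one] at h
  norm_num at h
  rw [Fintype.card_eq_nat_card] at h
  change Nat.card ↥phi.range * 22 = _ at h
  omega

theorem neg_conj : ∀ x ∈ projGrp, permOf negP * x * permOf negP ∈ projGrp := by
  obtain ⟨-, -, -, hnn, htr, hsq, hin, -, -, -⟩ := swap_check
  have hvn := neg_check.2
  have hn : permOf negP * permOf negP = 1 := by rw [← permOf_comp hvn hvn, hnn, permOf_idP]
  have hmem : ∀ {P Q : ℕ}, valid P = true → comp negP (comp P negP) = Q → permOf Q ∈ projGrp →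
      permOf negP * permOf P * permOf negP ∈ projGrp := fun {P Q} hP e hQ => by
    rw [mul_assoc, ← permOf_comp hP hvn, ← permOf_comp hvn (valid_comp hP hvn), e]
    exact hQ
  intro x hx
  refine Subgroup.closure_induction (p := fun y _ => permOf negP * y * permOf negP ∈ projGrp) ?_ ?_ ?_ ?_ hx
  · rintro y (rfl | rfl | rfl)
    · exact hmem (aff_valid (by norm_num) (by norm_num)) htr (affGrp_le_proj (aff_mem (by norm_num) (by norm_num)))
    · exact hmem (aff_valid (by norm_num) (by norm_num)) hsq (affGrp_le_proj (aff_mem (by norm_num) (by norm_num)))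
    · exact hmem inv_valid hin (Subgroup.subset_closure (by simp))
  · rw [mul_one, hn]; exact one_mem _
  · intro a b _ _ ha hb
    have := mul_mem ha hb
    rwa [show permOf negP * a * permOf negP * (permOf negP * b * permOf negP) =
      permOf negP * a * (permOf negP * permOf negP) * b * permOf negP by group, hn, mul_one,
      mul_assoc (permOf negP) a b] at this
  · intro a _ ha
    have := inv_mem ha
    rwa [mul_inv_rev, mul_inv_rev, inv_eq_of_mul_eq_one_right hn, ← mul_assoc] at this

theorem card_extGrp : 12144 ≤ Nat.card ↥extGrp := by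
  have hlt : projGrp < extGrp := lt_of_le_of_ne le_sup_left fun e => by
    have h : permOf negP ∈ projGrp := e ▸ Subgroup.mem_sup_right (Subgroup.mem_zpowers _)
    have := neg_check.1
    rw [inM24_of_mem neg_check.2 (projGrp_le h)] at this
    exact Bool.noConfusion this
  obtain ⟨c, hc⟩ := Subgroup.card_dvd_of_le hlt.le
  rw [card_projGrp] at hc
  rcases c with _ | _ | c
  · have : 0 < Nat.card ↥extGrp := Nat.card_pos
    omega
  · exact absurd (Subgroup.eq_of_le_of_card_ge hlt.le (by rw [card_projGrp, hc])) hlt.ne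
  · omega

/-- The model. -/
theorem extGrp_iso : Nonempty (↥extGrp ≃* GL (Fin 2) (ZMod 23) ⧸ Subgroup.center (GL (Fin 2) (ZMod 23))) := by
  have e : extGrp = phi.range := Subgroup.eq_of_le_of_card_ge extGrp_le (by rw [card_range_phi]; exact card_extGrp)
  rw [e]
  exact ⟨((QuotientGroup.quotientMulEquivOfEq phi_ker.symm).trans (QuotientGroup.quotientKerEquivRange phi)).symm⟩

end Cfsg.Agent.Spor.JFour.Pgl
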