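import Cfsg.Agent.Lib.Spor.JFourType.BigPrimes.Main
import Cfsg.Agent.Lib.Spor.JFourType.Pgl.Model
import Cfsg.Agent.S2063
import Cfsg.Agent.S2064

/-!
A subgroup isomorphic to the projective group of degree 2 over the residues modulo 23 in a group of Janko-four type:
an involution inverting a Sylow 23-subgroup exchanges two conjugates of the group of order 2¹¹, and the stabiliser of
the two is the projective special group.
-/

set_option autoImplicit false
set_option maxRecDepth 100000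
set_option linter.style.haveILetI false

open Cfsg

namespace Cfsg.Agent.Spor.JFour.Pgl

open Cfsg.Agent.Spor.Golay Psl23Max

theorem inner_of_out {H : Type*} [Group H] (h : Nat.card (Cfsg.Out H) = 1) (α : MulAut H) :
    ∃ c : H, ∀ x, α x = c * x * c⁻¹ := by
  have : Subsingleton (MulAut H ⧸ Cfsg.Inn H) := (Nat.card_eq_one_iff_unique.1 h).1
  have htop : Cfsg.Inn H = ⊤ := QuotientGroup.subsingleton_iff.1 this
  obtain ⟨c, hc⟩ : α ∈ Cfsg.Inn H := htop ▸ Subgroup.mem_top α
  exact ⟨c, fun x => by rw [← hc]; rfl⟩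

theorem map_conj_mem {G : Type*} [Group G] {H : Subgroup G} {i : G} (hi : i * i = 1) {x : G} :
    x ∈ H.map (MulAut.conj i).toMonoidHom ↔ i * x * i ∈ H := by
  have hii : i⁻¹ = i := inv_eq_of_mul_eq_one_right hi
  constructor
  · rintro ⟨y, hy, rfl⟩
    show i * (i * y * i⁻¹) * i ∈ H
    rw [hii, show i * (i * y * i) * i = i * i * y * (i * i) by group, hi, one_mul, mul_one]
    exact hy
  · intro h
    refine ⟨_, h, ?_⟩
    show i * (i * x * i) * i⁻¹ = x
    rw [hii, show i * (i * x * i) * i = i * i * x * (i * i) by group, hi, one_mul, mul_one]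

theorem sq_mem_proj : Psl23Max.sq ∈ projGrp := Subgroup.subset_closure (by simp)

theorem inv_mem_proj : permOf invP ∈ projGrp := Subgroup.subset_closure (by simp)

theorem tr_mem_proj : tr ∈ projGrp := Subgroup.subset_closure (by simp)

theorem proj_rels : permOf invP * permOf invP = 1 ∧
    permOf invP * Psl23Max.sq * permOf invP = Psl23Max.sq⁻¹ ∧ (tr * permOf invP) ^ 3 = 1 := by
  obtain ⟨-, -, cinv, -, -, -, -, c3, csq, -⟩ := swap_check
  have vI := inv_valid
  have vs := aff_valid (k := 1) (b := 0) (by norm_num) (by norm_num)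
  have v10 := aff_valid (k := 10) (b := 0) (by norm_num) (by norm_num)
  have vt := aff_valid (k := 0) (b := 1) (by norm_num) (by norm_num)
  have h1 : permOf invP * permOf invP = 1 := by rw [← permOf_comp vI vI, inv_checks.2.1, permOf_idP]
  refine ⟨h1, ?_, ?_⟩
  · rw [show Psl23Max.sq = permOf (affP 1 0) from rfl, ← permOf_comp vI vs, cinv, permOf_comp v10 vI, mul_assoc, h1,
      mul_one, eq_comm]
    exact inv_eq_of_mul_eq_one_right (by rw [← permOf_comp vs v10, csq, permOf_idP])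
  · have vp := valid_comp vt vI
    rw [pow_succ, pow_two, mul_assoc, tr, ← permOf_comp vt vI, ← permOf_comp vp vp,
      ← permOf_comp vp (valid_comp vp vp), c3, permOf_idP]

theorem neg_rels : permOf negP * permOf negP = 1 ∧ permOf negP * tr * permOf negP = tr⁻¹ ∧
    permOf negP * Psl23Max.sq * permOf negP = Psl23Max.sq ∧ permOf negP * permOf invP * permOf negP = permOf invP := by
  obtain ⟨-, -, -, hnn, htr, hsq, hin, -, -, ct⟩ := swap_check
  have hvn := neg_check.2
  have vI := inv_valid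
  have vs := aff_valid (k := 1) (b := 0) (by norm_num) (by norm_num)
  have vt := aff_valid (k := 0) (b := 1) (by norm_num) (by norm_num)
  have v22 := aff_valid (k := 0) (b := 22) (by norm_num) (by norm_num)
  refine ⟨by rw [← permOf_comp hvn hvn, hnn, permOf_idP], ?_, ?_, ?_⟩
  · rw [mul_assoc, tr, ← permOf_comp vt hvn, ← permOf_comp hvn (valid_comp vt hvn), htr, eq_comm]
    exact inv_eq_of_mul_eq_one_right (by rw [← permOf_comp vt v22, ct, permOf_idP])
  · rw [mul_assoc, show Psl23Max.sq = permOf (affP 1 0) from rfl, ← permOf_comp vs hvn,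
      ← permOf_comp hvn (valid_comp vs hvn), hsq]
  · rw [mul_assoc, ← permOf_comp vI hvn, ← permOf_comp hvn (valid_comp vI hvn), hin]

/-- Extending an injective map from the projective group by an involution inducing the map `t ↦ -t`. -/
theorem exists_extension {G : Type*} [Group G] [Finite G] (θ : ↥projGrp →* G) (hθ : Function.Injective θ) {i : G}
    (hii : i * i = 1) (hni : ∀ x, θ x ≠ i)
    (hc : ∀ x y : ↥projGrp, (y : Equiv.Perm GolayPt) = permOf negP * x * permOf negP → θ y = i * θ x * i) :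
    ∃ K : Subgroup G, Nonempty (↥K ≃* ↥extGrp) := by
  obtain ⟨hnn, -, -, -⟩ := neg_rels
  set σ := permOf negP with hσ
  have hσT : σ ∉ projGrp := fun h => by
    have := neg_check.1
    rw [inM24_of_mem neg_check.2 (projGrp_le h)] at this
    exact Bool.noConfusion this
  set Sg : Set (Equiv.Perm GolayPt × G) := {(σ, i)} ∪ Set.range fun x : ↥projGrp => ((x : Equiv.Perm GolayPt), θ x)
  set R := Subgroup.closure Sg with hR
  have hform : ∀ r ∈ R, ∃ x : ↥projGrp, r = ((x : Equiv.Perm GolayPt), θ x) ∨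
      r = ((x : Equiv.Perm GolayPt) * σ, θ x * i) := by
    intro r hr
    refine closure_sub_of_left (S := Sg)
      (X := {r | ∃ x : ↥projGrp, r = ((x : Equiv.Perm GolayPt), θ x) ∨ r = ((x : Equiv.Perm GolayPt) * σ, θ x * i)})
      ⟨1, Or.inl (by simp [Prod.ext_iff])⟩ ?_ hr
    rintro s hs r ⟨x, hx⟩
    have hm : σ * x * σ ∈ projGrp := Pgl.neg_conj _ x.2
    have hcx := hc x ⟨_, hm⟩ rfl
    rcases hs with rfl | ⟨w, rfl⟩
    · refine ⟨⟨_, hm⟩, ?_⟩
      rcases hx with rfl | rfl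
      · right
        refine Prod.ext ?_ ?_
        · show σ * (x : Equiv.Perm GolayPt) = σ * x * σ * σ
          rw [mul_assoc _ σ σ, hnn, mul_one]
        · show i * θ x = θ _ * i
          rw [hcx, mul_assoc _ i i, hii, mul_one]
      · left
        refine Prod.ext ?_ ?_
        · show σ * ((x : Equiv.Perm GolayPt) * σ) = σ * x * σ
          rw [mul_assoc]
        · show i * (θ x * i) = θ _
          rw [hcx, mul_assoc]
    · refine ⟨w * x, ?_⟩
      rcases hx with rfl | rfl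
      · exact Or.inl (by simp)
      · exact Or.inr (by simp [mul_assoc])
  let π1 : ↥R →* Equiv.Perm GolayPt := (MonoidHom.fst _ _).comp R.subtype
  let π2 : ↥R →* G := (MonoidHom.snd _ _).comp R.subtype
  have i1 : Function.Injective π1 := (injective_iff_map_eq_one _).2 fun r hr => by
    obtain ⟨x, h | h⟩ := hform r r.2
    · have hx : x = 1 := Subtype.ext (by simpa [π1, h] using hr)
      exact Subtype.ext (by rw [h, hx, map_one]; rfl)
    · refine absurd ?_ hσT
      have e : (x : Equiv.Perm GolayPt) * σ = 1 := by simpa [π1, h] using hr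
      rw [eq_inv_of_mul_eq_one_right e]
      exact inv_mem x.2
  have i2 : Function.Injective π2 := (injective_iff_map_eq_one _).2 fun r hr => by
    obtain ⟨x, h | h⟩ := hform r r.2
    · have hx : x = 1 := hθ (by rw [map_one]; simpa [π2, h] using hr)
      exact Subtype.ext (by rw [h, hx, map_one]; rfl)
    · refine absurd ?_ (hni x⁻¹)
      have e : θ x * i = 1 := by simpa [π2, h] using hr
      rw [map_inv, eq_inv_of_mul_eq_one_right e]
  have hr1 : π1.range = extGrp := by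
    refine le_antisymm ?_ (sup_le (fun x hx => ?_) (Subgroup.zpowers_le.2 ?_))
    · rintro _ ⟨r, rfl⟩
      obtain ⟨x, h | h⟩ := hform r r.2 <;> show (r : Equiv.Perm GolayPt × G).1 ∈ extGrp <;> rw [h]
      · exact Subgroup.mem_sup_left x.2
      · exact mul_mem (Subgroup.mem_sup_left x.2) (Subgroup.mem_sup_right (Subgroup.mem_zpowers _))
    · exact ⟨⟨(x, θ ⟨x, hx⟩), Subgroup.subset_closure (Or.inr ⟨⟨x, hx⟩, rfl⟩)⟩, rfl⟩
    · exact ⟨⟨(σ, i), Subgroup.subset_closure (Or.inl rfl)⟩, rfl⟩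
  exact ⟨π2.range, ⟨((MonoidHom.ofInjective i2).symm.trans (MonoidHom.ofInjective i1)).trans
    (MulEquiv.subgroupCongr hr1)⟩⟩

theorem eq_conj (ρ : ↥projGrp →* Equiv.Perm GolayPt) (ht : ρ ⟨tr, tr_mem_proj⟩ = tr⁻¹)
    (hs : ρ ⟨Psl23Max.sq, sq_mem_proj⟩ = Psl23Max.sq) (hi : ρ ⟨permOf invP, inv_mem_proj⟩ = permOf invP)
    (x : ↥projGrp) : ρ x = permOf negP * x * permOf negP := by
  obtain ⟨nn, nt, ns, ni⟩ := neg_rels
  obtain ⟨x, hx⟩ := x
  induction hx using Subgroup.closure_induction with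
  | mem y hy =>
    rcases hy with rfl | rfl | rfl
    · rw [nt]; exact ht
    · rw [ns]; exact hs
    · rw [ni]; exact hi
  | one => rw [mul_one, nn]; exact map_one ρ
  | mul a b ha hb ea eb =>
    have e : ρ ⟨a * b, mul_mem ha hb⟩ = ρ ⟨a, ha⟩ * ρ ⟨b, hb⟩ := map_mul ρ ⟨a, ha⟩ ⟨b, hb⟩
    rw [e, ea, eb, show permOf negP * a * permOf negP * (permOf negP * b * permOf negP) =
      permOf negP * a * (permOf negP * permOf negP) * b * permOf negP by group, nn, mul_one]
    group
  | inv a ha ea =>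
    have e : ρ ⟨a⁻¹, inv_mem ha⟩ = (ρ ⟨a, ha⟩)⁻¹ := map_inv ρ ⟨a, ha⟩
    rw [e, ea, mul_inv_rev, mul_inv_rev, inv_eq_of_mul_eq_one_right nn, mul_assoc]

end Cfsg.Agent.Spor.JFour.Pgl

namespace Cfsg.Agent.Spor.JFour.Frame

open Big Cfsg.Agent.Spor.Golay Psl23Max

variable {G : Type*} [Group G] {z : G} {P : Subgroup G} {S : Setting z P} (Fr : Frame S) [Finite G] [IsSimpleGroup G]

set_option maxHeartbeats 1000000 in
include Fr in
theorem exists_pgl (hJ : Cfsg.IsOfJankoFourTypeWith z P) (hG : ¬ IsMulCommutative G) (hord : Nat.card G = N0) :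
    ∃ K : Subgroup G, Nonempty (↥K ≃* GL (Fin 2) (ZMod 23) ⧸ Subgroup.center (GL (Fin 2) (ZMod 23))) := by
  classical
  haveI : Fact (Nat.Prime 23) := ⟨by norm_num⟩
  haveI : Fact (Nat.Prime 2) := ⟨Nat.prime_two⟩
  have D := Fr.duadic hG
  obtain ⟨N, hNdef, f, hker, hsurj⟩ : ∃ (N : Subgroup G) (_ : N = Subgroup.normalizer (Fr.A : Set G))
      (f : ↥N →* ↥Cfsg.M24), (∀ n, f n = 1 ↔ (n : G) ∈ Fr.A) ∧ Function.Surjective f := by
    obtain ⟨f, h1, h2, -⟩ := Fr.exists_toM24 D
    exact ⟨_, rfl, f, h1, h2⟩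
  have hNmem : ∀ {g : G}, g ∈ N ↔ ∀ x, x ∈ Fr.A ↔ g * x * g⁻¹ ∈ Fr.A := fun {g} => by
    rw [hNdef]; exact Subgroup.mem_normalizer_iff
  let F : ↥N →* Equiv.Perm GolayPt := Cfsg.M24.subtype.comp f
  have hFf : ∀ n, F n = (f n : Equiv.Perm GolayPt) := fun n => rfl
  have hFker : ∀ n, F n = 1 ↔ (n : G) ∈ Fr.A := fun n => by
    rw [← hker n, hFf]
    exact OneMemClass.coe_eq_one
  have trM : tr ∈ Cfsg.M24 := projGrp_le Pgl.tr_mem_proj
  have sqM : Psl23Max.sq ∈ Cfsg.M24 := projGrp_le Pgl.sq_mem_proj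
  obtain ⟨u0, hu, hu23⟩ : ∃ n : ↥N, F n = tr ∧ n ^ 23 = 1 := by
    obtain ⟨n0, hn0⟩ := hsurj ⟨tr, trM⟩
    have hF : F n0 = tr := by rw [hFf, hn0]
    have h23 : tr ^ 23 = 1 := orderOf_tr ▸ pow_orderOf_eq_one _
    refine ⟨n0 ^ 24, by rw [map_pow, hF, pow_succ, h23, one_mul], ?_⟩
    have hA : ((n0 ^ 23 : ↥N) : G) ∈ Fr.A := (hFker _).1 (by rw [map_pow, hF, h23])
    have h2 : (n0 ^ 23) ^ 2 = 1 := Subtype.ext (by
      rw [pow_two, Subgroup.coe_mul, OneMemClass.coe_one]; exact Fr.A_sq _ hA)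
    rw [← pow_mul, show 24 * 23 = 23 * 2 * 12 by norm_num, pow_mul, pow_mul, h2, one_pow]
  obtain ⟨s0, hs⟩ : ∃ n : ↥N, F n = Psl23Max.sq := by
    obtain ⟨n0, hn0⟩ := hsurj ⟨Psl23Max.sq, sqM⟩
    exact ⟨n0, by rw [hFf, hn0]⟩
  set u : G := (u0 : G) with hudef
  have huo : orderOf u = 23 := by
    refine orderOf_eq_prime (by rw [hudef, ← SubgroupClass.coe_pow, hu23, OneMemClass.coe_one]) fun e => ?_
    have : u0 = 1 := Subtype.ext e
    rw [this, map_one] at hu
    have := orderOf_tr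
    rw [← hu, orderOf_one] at this
    norm_num at this
  set U := Subgroup.zpowers u with hUdef
  have hUc : Nat.card ↥U = 23 := by rw [hUdef, Nat.card_zpowers, huo]
  obtain ⟨hCU, hfin, hNU⟩ := Fr.big_local hJ hG hord 23 (by decide) U hUc
  have he22 : ei U = 22 := by
    simpa [final] using hfin
  have hUN : U ≤ N := Subgroup.zpowers_le.2 u0.2
  -- the involution inverting the group of order 23
  obtain ⟨j0, hj0⟩ := exists_prime_orderOf_dvd_card' 2 (G := ↥(Subgroup.normalizer (U : Set G)))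
    (by rw [hNU, he22]; norm_num)
  have hj2 : (j0 : G) * (j0 : G) = 1 := by
    rw [← pow_two, ← SubgroupClass.coe_pow, ← hj0, pow_orderOf_eq_one, OneMemClass.coe_one]
  have hj1 : (j0 : G) ≠ 1 := fun e => by
    rw [show j0 = 1 from Subtype.ext e, orderOf_one] at hj0
    norm_num at hj0
  set j : G := (j0 : G) with hjdef
  have hji : j⁻¹ = j := inv_eq_of_mul_eq_one_right hj2
  have hju : j * u * j ∈ U := by
    have := (Subgroup.mem_normalizer_iff.1 j0.2 u).1 (Subgroup.mem_zpowers u)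
    rwa [hji] at this
  have hjC : j ∉ U := fun h => by
    have h23 : orderOf j ∣ 23 := hUc ▸ Subgroup.orderOf_dvd_natCard U h
    rw [hjdef, Subgroup.orderOf_coe, hj0] at h23
    norm_num at h23
  have hju_inv : j * u * j = u⁻¹ := by
    obtain ⟨n, hn⟩ := (IsOfFinOrder.mem_powers_iff_mem_zpowers (isOfFinOrder_of_finite u)).2 hju
    change u ^ n = j * u * j at hn
    have h2 : u ^ (n * n) = u ^ 1 := by
      rw [pow_one, pow_mul, hn]
      have := conj_pow (a := j) (b := u) (i := n)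
      rw [hji] at this
      rw [this, hn, show j * (j * u * j) * j = j * j * u * (j * j) by group, hj2, one_mul, mul_one]
    rw [pow_eq_pow_iff_modEq, huo, Nat.ModEq, Nat.mul_mod] at h2
    have hn' : n % 23 = 1 ∨ n % 23 = 22 := by
      have h : ∀ r < 23, r * r % 23 = 1 % 23 → r = 1 ∨ r = 22 := by decide
      exact h _ (Nat.mod_lt _ (by norm_num)) h2
    rcases hn' with h | h
    · refine absurd ?_ hjC
      have he : j * u * j = u := by rw [← hn, ← pow_mod_orderOf, huo, h, pow_one]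
      rw [← hCU]
      refine Subgroup.mem_centralizer_iff.2 fun w hw => ?_
      obtain ⟨k, rfl⟩ := Subgroup.mem_zpowers_iff.1 hw
      have hc : Commute j u := by
        calc j * u = j * u * (j * j) := by rw [hj2, mul_one]
          _ = j * u * j * j := by group
          _ = u * j := by rw [he]
      exact (hc.zpow_right k).eq.symm
    · rw [← hn, ← pow_mod_orderOf, huo, h, eq_comm]
      refine inv_eq_of_mul_eq_one_right ?_
      rw [← pow_succ']
      have := pow_orderOf_eq_one u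
      rwa [huo] at this
  -- no involution of the centraliser of the group of order 23 in the group of order 2¹¹
  have hupow : ∀ k : ℤ, u ^ k ∈ N := fun k => zpow_mem u0.2 k
  have hAU : ∀ x ∈ Fr.A, x * u = u * x → x = 1 := by
    intro x hx hc
    have hxU : x ∈ U := by
      rw [← hCU]
      refine Subgroup.mem_centralizer_iff.2 fun w hw => ?_
      obtain ⟨k, rfl⟩ := Subgroup.mem_zpowers_iff.1 hw
      exact ((show Commute x u from hc).zpow_right k).eq.symm
    have h23 : orderOf x ∣ 23 := hUc ▸ Subgroup.orderOf_dvd_natCard U hxU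
    have h2 : orderOf x ∣ 2 := orderOf_dvd_of_pow_eq_one (by rw [pow_two, Fr.A_sq x hx])
    exact orderOf_eq_one_iff.1 (Nat.eq_one_of_dvd_coprimes (by norm_num) h2 h23)
  have hAconj : ∀ n : ↥N, ∀ x ∈ Fr.A, (n : G) * x * (n : G)⁻¹ ∈ Fr.A := fun n x hx =>
    (hNmem.1 n.2 x).1 hx
  -- the element of order eleven
  have hrel : Psl23Max.sq * tr * Psl23Max.sq⁻¹ = tr ^ 2 := by
    have vs := aff_valid (k := 1) (b := 0) (by norm_num) (by norm_num)
    have vt := aff_valid (k := 0) (b := 1) (by norm_num) (by norm_num)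
    rw [mul_inv_eq_iff_eq_mul, pow_two, tr, Psl23Max.sq, ← permOf_comp vs vt, ← permOf_comp vt vt,
      ← permOf_comp (valid_comp vt vt) vs]
    exact congrArg permOf (by decide +kernel)
  obtain ⟨a, haA, hsua⟩ : ∃ a ∈ Fr.A, (s0 : G) * u * (s0 : G)⁻¹ = u ^ 2 * a := by
    refine ⟨(((u0 ^ 2)⁻¹ * (s0 * u0 * s0⁻¹) : ↥N) : G), (hFker _).1 ?_, ?_⟩
    · rw [map_mul, map_inv, map_pow, map_mul, map_mul, map_inv, hu, hs, hrel, inv_mul_cancel]
    · simp only [hudef, Subgroup.coe_mul, Subgroup.coe_inv, SubgroupClass.coe_pow]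
      group
  obtain ⟨b, hbA, hb⟩ : ∃ b ∈ Fr.A, (u ^ 2)⁻¹ * b * u ^ 2 * b = a := by
    have hu2 : ((u ^ 2)⁻¹ : G) ∈ N := inv_mem (pow_mem u0.2 2)
    have hmem : ∀ x : ↥Fr.A, (u ^ 2)⁻¹ * (x : G) * u ^ 2 * x ∈ Fr.A := fun x => mul_mem (by
      have := hAconj ⟨_, hu2⟩ x x.2
      rwa [inv_inv] at this) x.2
    have hinj : Function.Injective fun x : ↥Fr.A => (⟨_, hmem x⟩ : ↥Fr.A) := by
      intro x y h
      have h' : (u ^ 2)⁻¹ * (x : G) * u ^ 2 * x = (u ^ 2)⁻¹ * y * u ^ 2 * y := congrArg Subtype.val h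
      have hxy : ((x * y : ↥Fr.A) : G) = 1 := by
        refine hAU _ (x * y).2 ?_
        rw [Subgroup.coe_mul]
        set d : G := (x : G) * y with hd
        have hdd : (u ^ 2)⁻¹ * d * u ^ 2 = d := by
          have e1 : (u ^ 2)⁻¹ * d * u ^ 2 = ((u ^ 2)⁻¹ * x * u ^ 2) * ((u ^ 2)⁻¹ * y * u ^ 2) := by rw [hd]; group
          have hy1 : ((u ^ 2)⁻¹ * y * u ^ 2) ∈ Fr.A := by
            have := hAconj ⟨_, hu2⟩ y y.2
            rwa [inv_inv] at this
          have e2 : (u ^ 2)⁻¹ * x * u ^ 2 = (u ^ 2)⁻¹ * y * u ^ 2 * y * x := by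
            rw [← h', mul_assoc ((u ^ 2)⁻¹ * (x : G) * u ^ 2), Fr.A_sq _ x.2, mul_one]
          rw [e1, e2, mul_assoc ((u ^ 2)⁻¹ * (y : G) * u ^ 2) (y : G) x,
            mul_assoc ((u ^ 2)⁻¹ * (y : G) * u ^ 2),
            Fr.A_comm _ (mul_mem y.2 x.2) _ hy1, ← mul_assoc, Fr.A_sq _ hy1, one_mul, hd, Fr.A_comm _ y.2 _ x.2]
        have hc : Commute d (u ^ 2) := by
          show d * u ^ 2 = u ^ 2 * d
          calc d * u ^ 2 = u ^ 2 * ((u ^ 2)⁻¹ * d * u ^ 2) := by group
            _ = u ^ 2 * d := by rw [hdd]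
        have h12 := hc.pow_right 12
        rw [← pow_mul, show 2 * 12 = 23 + 1 from rfl, pow_succ, ← huo, pow_orderOf_eq_one, one_mul] at h12
        exact h12.eq
      have : (x : G) = y := by
        rw [Subgroup.coe_mul] at hxy
        calc (x : G) = x * (y * y) := by rw [Fr.A_sq _ y.2, mul_one]
          _ = x * y * y := (mul_assoc _ _ _).symm
          _ = y := by rw [hxy, one_mul]
      exact Subtype.ext this
    obtain ⟨x, hx⟩ := (Finite.injective_iff_surjective.1 hinj) ⟨a, haA⟩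
    exact ⟨x, x.2, congrArg Subtype.val hx⟩
  have hbN : b ∈ N := hNdef ▸ Subgroup.le_normalizer hbA
  set s : G := b * (s0 : G) with hsdef
  have hbb : b * b = 1 := Fr.A_sq b hbA
  have hsN : s ∈ N := mul_mem hbN s0.2
  have hFs : F ⟨s, hsN⟩ = Psl23Max.sq := by
    have : (⟨s, hsN⟩ : ↥N) = ⟨b, hbN⟩ * s0 := rfl
    rw [this, map_mul, (hFker ⟨b, hbN⟩).2 hbA, hs, one_mul]
  have hsu : s * u * s⁻¹ = u ^ 2 := by
    rw [hsdef, show b * (s0 : G) * u * (b * (s0 : G))⁻¹ = b * ((s0 : G) * u * (s0 : G)⁻¹) * b⁻¹ by group, hsua,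
      inv_eq_of_mul_eq_one_right hbb, ← hb,
      show b * (u ^ 2 * ((u ^ 2)⁻¹ * b * u ^ 2 * b)) * b = b * b * u ^ 2 * (b * b) by group, hbb, one_mul, mul_one]
  -- the involution commuting with it
  obtain ⟨m, hm⟩ : ∃ m : ℕ, j * s * j = u ^ m * s := by
    have hmem : j * s * j * s⁻¹ ∈ U := by
      rw [← hCU]
      refine Subgroup.mem_centralizer_iff.2 fun w hw => ?_
      obtain ⟨k, rfl⟩ := Subgroup.mem_zpowers_iff.1 hw
      have hc : Commute (j * s * j * s⁻¹) u := by
        have h2 : s⁻¹ * u ^ 2 * s = u := by rw [← hsu]; group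
        show j * s * j * s⁻¹ * u = u * (j * s * j * s⁻¹)
        have h3 : s⁻¹ * u * s = u ^ 12 := by
          have h4 : s⁻¹ * (u ^ 2) ^ 12 * s = u ^ 12 := by
            calc s⁻¹ * (u ^ 2) ^ 12 * s = s⁻¹ * (u ^ 2) ^ 12 * s⁻¹⁻¹ := by rw [inv_inv]
              _ = (s⁻¹ * u ^ 2 * s⁻¹⁻¹) ^ 12 := conj_pow.symm
              _ = _ := by rw [inv_inv, h2]
          rwa [← pow_mul, show 2 * 12 = 23 + 1 from rfl, pow_succ, ← huo, pow_orderOf_eq_one, one_mul] at h4
        have h5 : j * u ^ 12 * j = (u ^ 12)⁻¹ := by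
          have := conj_pow (a := j) (b := u) (i := 12)
          rw [hji] at this
          rw [← this, hju_inv, inv_pow]
        have h6 : s * (u ^ 12)⁻¹ * s⁻¹ = u⁻¹ := by
          have h7 : s * u ^ 12 * s⁻¹ = u := by
            rw [← h3]; group
          rw [show s * (u ^ 12)⁻¹ * s⁻¹ = (s * u ^ 12 * s⁻¹)⁻¹ by group, h7]
        calc j * s * j * s⁻¹ * u = j * s * j * (s⁻¹ * u * s) * s⁻¹ := by group
          _ = j * s * (j * u ^ 12 * j) * j⁻¹ * s⁻¹ := by rw [h3]; group
          _ = j * (s * (u ^ 12)⁻¹ * s⁻¹) * s * j⁻¹ * s⁻¹ := by rw [h5]; group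
          _ = j * u⁻¹ * j * (j⁻¹ * s * j⁻¹) * s⁻¹ := by rw [h6]; group
          _ = _ := by
            rw [hji, show j * u⁻¹ * j = (j * u * j)⁻¹ by rw [mul_inv_rev, mul_inv_rev, hji, mul_assoc], hju_inv, inv_inv]
            group
      exact (hc.zpow_right k).eq.symm
    obtain ⟨m, hm⟩ := (IsOfFinOrder.mem_powers_iff_mem_zpowers (isOfFinOrder_of_finite u)).2 hmem
    exact ⟨m, by change u ^ m = _ at hm; rw [hm, inv_mul_cancel_right]⟩
  set i : G := u ^ m * j with hidef
  have hjm : j * u ^ m * j = (u ^ m)⁻¹ := by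
    have := conj_pow (a := j) (b := u) (i := m)
    rw [hji] at this
    rw [← this, hju_inv, inv_pow]
  have hii : i * i = 1 := by
    rw [hidef, show u ^ m * j * (u ^ m * j) = u ^ m * (j * u ^ m * j) by group, hjm, mul_inv_cancel]
  have hi' : i⁻¹ = i := inv_eq_of_mul_eq_one_right hii
  have hiu : i * u * i = u⁻¹ := by
    have e : i = j * (u ^ m)⁻¹ := by rw [← hi', hidef, mul_inv_rev, hji]
    calc i * u * i = u ^ m * j * u * (j * (u ^ m)⁻¹) := by rw [← hidef, ← e]
      _ = u ^ m * (j * u * j) * (u ^ m)⁻¹ := by group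
      _ = u⁻¹ := by rw [hju_inv]; group
  have his : i * s * i = s := by
    have e : i = j * (u ^ m)⁻¹ := by rw [← hi', hidef, mul_inv_rev, hji]
    have h2 : s * (u ^ m)⁻¹ * s⁻¹ = ((u ^ m) * (u ^ m))⁻¹ := by
      rw [show s * (u ^ m)⁻¹ * s⁻¹ = (s * u ^ m * s⁻¹)⁻¹ by group, ← conj_pow, hsu, ← pow_mul, ← pow_add, two_mul]
    calc i * s * i = u ^ m * j * s * (j * (u ^ m)⁻¹) := by rw [← hidef, ← e]
      _ = u ^ m * (j * s * j) * (u ^ m)⁻¹ := by group
      _ = u ^ m * u ^ m * (s * (u ^ m)⁻¹ * s⁻¹) * s := by rw [hm]; group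
      _ = s := by rw [h2]; group
  have hiN : i ∉ N := by
    intro hi
    set h := F ⟨i, hi⟩ with hhdef
    have hh2 : h * h = 1 := by
      rw [hhdef, ← map_mul, show (⟨i, hi⟩ : ↥N) * ⟨i, hi⟩ = 1 from Subtype.ext hii, map_one]
    have hht : h * tr * h = tr⁻¹ := by
      rw [hhdef, ← hu, ← map_mul, ← map_mul, ← map_inv]
      exact congrArg F (Subtype.ext hiu)
    have hhi : h⁻¹ = h := inv_eq_of_mul_eq_one_right hh2
    have vt := aff_valid (k := 0) (b := 1) (by norm_num) (by norm_num)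
    have tn : tr none = (none : GolayPt) := fix_none vt (aff_checks.2.2.1 0 (by norm_num) 1 (by norm_num)).2.2
    have hn : h none = none := by
      have h1 : tr (h none) = h none := by
        have e := congrArg (fun p : Equiv.Perm GolayPt => p none) hht
        simp only [Equiv.Perm.mul_apply, Equiv.Perm.inv_eq_iff_eq.2 tn.symm] at e
        have := congrArg h e
        rwa [← Equiv.Perm.mul_apply, hh2, Equiv.Perm.one_apply] at this
      have hall : ∀ i < 23, get (affP 0 1) i ≠ i := by decide +kernel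
      have e := congrArg idx h1
      rw [tr, idx_permOf vt] at e
      by_contra hne
      refine hall _ (lt_of_le_of_ne (Nat.le_of_lt_succ (idx_lt _)) fun h23 => hne ?_) e
      rw [← pt_idx (h none), h23, pt_last]
    have hh23 : h ∈ Cfsg.Spor.M23 := mem_M23.2 ⟨(f ⟨i, hi⟩).2, hn⟩
    have hh := mem_of_conj hh23 (by
      rw [hhi, hht]; exact inv_mem (Subgroup.subset_closure (by simp)))
    have h253 : orderOf h ∣ 253 := card_affGrp ▸ Subgroup.orderOf_dvd_natCard _ hh
    have h2 : orderOf h ∣ 2 := orderOf_dvd_of_pow_eq_one (by rw [pow_two, hh2])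
    have h1 : h = 1 := orderOf_eq_one_iff.1 (Nat.eq_one_of_dvd_coprimes (by norm_num) h2 h253)
    rw [h1, one_mul, mul_one] at hht
    have h3 : tr ^ 2 = 1 := by rw [pow_two]; nth_rewrite 2 [hht]; rw [mul_inv_cancel]
    have := orderOf_dvd_of_pow_eq_one h3
    rw [orderOf_tr] at this
    norm_num at this
  -- the stabiliser of the two groups
  set Sg : Subgroup G := N ⊓ N.map (MulAut.conj i).toMonoidHom with hSdef
  have hmemS : ∀ {x : G}, x ∈ Sg ↔ x ∈ N ∧ i * x * i ∈ N := fun {x} => by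
    rw [hSdef, Subgroup.mem_inf, Pgl.map_conj_mem hii]
  have hSi : ∀ {x : G}, x ∈ Sg → i * x * i ∈ Sg := fun {x} hx => hmemS.2 ⟨(hmemS.1 hx).2, by
    rw [show i * (i * x * i) * i = i * i * x * (i * i) by group, hii, one_mul, mul_one]; exact (hmemS.1 hx).1⟩
  have huS : u ∈ Sg := hmemS.2 ⟨u0.2, by rw [hiu]; exact inv_mem u0.2⟩
  have hsS : s ∈ Sg := hmemS.2 ⟨hsN, by rw [his]; exact hsN⟩
  have hinv_pow : ∀ W : Subgroup G, W ≤ Fr.A → (∀ w ∈ W, u * w * u⁻¹ ∈ W) → W = ⊥ ∨ W = Fr.A := by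
    intro W hW hWu
    obtain ⟨k, hk, hWc⟩ := (Nat.dvd_prime_pow Nat.prime_two).1 (Fr.card_A ▸ Subgroup.card_dvd_of_le hW)
    by_cases h11 : k = 11
    · exact Or.inr (Subgroup.eq_of_le_of_card_ge hW (by rw [hWc, Fr.card_A, h11]))
    left
    have hmap : W.map (MulAut.conj u).toMonoidHom = W :=
      Subgroup.eq_of_le_of_card_ge (by rintro _ ⟨w, hw, rfl⟩; exact hWu w hw)
        (Subgroup.card_map_of_injective (f := (MulAut.conj u).toMonoidHom) (MulAut.conj u).injective).ge
    have hn : u ∈ Subgroup.normalizer (W : Set G) := Subgroup.mem_normalizer_iff.2 fun v => ⟨hWu v, fun hv => by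
      rw [← hmap] at hv
      obtain ⟨w, hw, e⟩ := hv
      have : w = v := by simpa using e
      rwa [this] at hw⟩
    have hk10 : ∀ l ≤ k, 2 ^ l % 23 = 1 → l = 0 := fun l hl => by
      have : ∀ l < 11, 2 ^ l % 23 = 1 → l = 0 := by decide
      exact this l (by omega)
    exact (Subgroup.eq_bot_iff_forall _).2 fun w hw => hAU w (hW hw)
      (fixed_all (q := 23) (r := 2) Nat.prime_two (by norm_num) huo hWc hn hk10 w hw).symm
  have hSA : Sg ⊓ Fr.A = ⊥ := by
    rcases hinv_pow (Sg ⊓ Fr.A) inf_le_right (fun w hw => ⟨Sg.mul_mem (Sg.mul_mem huS hw.1) (Sg.inv_mem huS),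
      hAconj u0 w hw.2⟩) with h | h
    · exact h
    exfalso
    have hAS : ∀ x ∈ Fr.A, i * x * i ∈ N := fun x hx => (hmemS.1 (inf_eq_right.1 h hx)).2
    set X := Fr.A ⊓ Fr.A.map (MulAut.conj i).toMonoidHom with hX
    have hback : ∀ x ∈ Fr.A, i * x * i ∈ Fr.A → x ∈ X := fun x hx hx' =>
      ⟨hx, (Pgl.map_conj_mem hii).2 hx'⟩
    rcases hinv_pow X inf_le_left (fun w hw => by
      refine hback _ (hAconj u0 w hw.1) ?_
      rw [show i * (u * w * u⁻¹) * i = (i * u * i) * (i * w * i) * (i * u * i)⁻¹ by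
        calc i * (u * w * u⁻¹) * i = i * u * (i * i) * w * (i * i) * u⁻¹ * i := by rw [hii]; group
          _ = (i * u * i) * (i * w * i) * (i * u⁻¹ * i) := by group
          _ = _ := by
            rw [eq_comm (a := i * u * i * (i * w * i) * (i * u⁻¹ * i))]
            congr 1
            refine inv_eq_of_mul_eq_one_right ?_
            rw [show i * u * i * (i * u⁻¹ * i) = i * u * (i * i) * u⁻¹ * i by group, hii, mul_one,
              mul_inv_cancel_right, hii], hiu]
      exact hAconj ⟨u⁻¹, inv_mem u0.2⟩ _ ((Pgl.map_conj_mem hii).1 hw.2)) with hX1 | hX1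
    · -- the two groups centralise each other
      have hcen : ∀ y ∈ Fr.A, i * y * i ∈ Fr.A := fun y hy => by
        refine Fr.centralizer_A (Subgroup.mem_centralizer_iff.2 fun x hx => ?_)
        set v := i * y * i with hv
        have hc : x * v * x⁻¹ * v⁻¹ ∈ X := by
          refine hback _ ?_ ?_
          · rw [show x * v * x⁻¹ * v⁻¹ = x * (v * x⁻¹ * v⁻¹) by group]
            exact mul_mem hx (hAconj ⟨v, hAS y hy⟩ _ (inv_mem hx))
          · rw [show i * (x * v * x⁻¹ * v⁻¹) * i = (i * x * i) * (i * v * i) * (i * x * i)⁻¹ * (i * v * i)⁻¹ by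
              simp only [mul_inv_rev, hi']
              calc i * (x * v * x⁻¹ * v⁻¹) * i = i * x * (i * i) * v * (i * i) * x⁻¹ * (i * i) * v⁻¹ * i := by
                    rw [hii]; group
                _ = _ := by group]
            have hviy : i * v * i = y := by
              rw [hv, show i * (i * y * i) * i = i * i * y * (i * i) by group, hii, one_mul, mul_one]
            rw [hviy]
            exact mul_mem (hAconj ⟨_, hAS x hx⟩ _ hy) (inv_mem hy)
        rw [hX1, Subgroup.mem_bot, mul_inv_eq_one, mul_inv_eq_iff_eq_mul] at hc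
        exact hc
      refine hiN (hNmem.2 fun y => ⟨fun hy => by rw [hi']; exact hcen y hy, fun hy => ?_⟩)
      rw [hi'] at hy
      have := hcen _ hy
      rwa [show i * (i * y * i) * i = i * i * y * (i * i) by group, hii, one_mul, mul_one] at this
    · refine hiN (hNmem.2 fun y => ⟨fun hy => ?_, fun hy => ?_⟩)
      · rw [hi']
        exact (Pgl.map_conj_mem hii).1 ((inf_eq_left.1 hX1) hy)
      · rw [hi'] at hy
        have := (Pgl.map_conj_mem hii).1 ((inf_eq_left.1 hX1) hy)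
        rwa [show i * (i * y * i) * i = i * i * y * (i * i) by group, hii, one_mul, mul_one] at this
  let fS : ↥Sg →* Equiv.Perm GolayPt := F.comp (Subgroup.inclusion (inf_le_left : Sg ≤ N))
  have hfS : Function.Injective fS := (injective_iff_map_eq_one _).2 fun x hx => by
    have hxA : (x : G) ∈ Fr.A := (hFker _).1 hx
    have := hSA ▸ (Subgroup.mem_inf.2 ⟨x.2, hxA⟩ : (x : G) ∈ Sg ⊓ Fr.A)
    exact Subtype.ext (Subgroup.mem_bot.1 this)
  have hfu : fS ⟨u, huS⟩ = tr := hu
  have hfs : fS ⟨s, hsS⟩ = Psl23Max.sq := hFs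
  set T := fS.range with hTdef
  have hTA : affGrp ≤ T := (Subgroup.closure_le _).2 (by
    rintro g (rfl | rfl)
    · exact ⟨_, hfu⟩
    · exact ⟨_, hfs⟩)
  have hTM : T ≤ Cfsg.M24 := by rintro _ ⟨x, rfl⟩; exact (f _).2
  have hTc : 253 < Nat.card ↥T := by
    rw [hTdef, ← Nat.card_congr (MonoidHom.ofInjective hfS).toEquiv]
    have hidx : N.index = 173067389 := by
      have h := N.index_mul_card
      rw [hNdef, Fr.card_normalizer hG, hord] at h
      rw [hNdef]
      exact Nat.eq_of_mul_eq_mul_right (by norm_num : 0 < 2 ^ 11 * 244823040) (h.trans (by decide +kernel))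
    have hidx' : (N.map (MulAut.conj i).toMonoidHom).index = 173067389 := by
      rw [← hidx]
      exact Subgroup.index_map_equiv N (MulAut.conj i)
    have h1 := Subgroup.index_inf_le (H := N) (K := N.map (MulAut.conj i).toMonoidHom)
    rw [hidx, hidx', ← hSdef] at h1
    by_contra hle
    have h2 := Nat.mul_le_mul h1 (not_lt.1 hle)
    rw [Subgroup.index_mul_card, hord] at h2
    revert h2
    decide +kernel
  have hconjS : ∃ β : MulAut ↥T, ∀ x : ↥Sg, β ⟨fS x, x, rfl⟩ = ⟨fS ⟨i * x * i, hSi x.2⟩, _, rfl⟩ := by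
    let α : MulAut ↥Sg :=
      { toFun := fun x => ⟨i * x * i, hSi x.2⟩
        invFun := fun x => ⟨i * x * i, hSi x.2⟩
        left_inv := fun x => Subtype.ext (show i * (i * (x : G) * i) * i = x by
          rw [show i * (i * (x : G) * i) * i = i * i * x * (i * i) by group, hii, one_mul, mul_one])
        right_inv := fun x => Subtype.ext (show i * (i * (x : G) * i) * i = x by
          rw [show i * (i * (x : G) * i) * i = i * i * x * (i * i) by group, hii, one_mul, mul_one])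
        map_mul' := fun x y => Subtype.ext (show i * ((x : G) * y) * i = i * x * i * (i * y * i) by
          rw [show i * (x : G) * i * (i * y * i) = i * x * (i * i) * y * i by group, hii, mul_one]; group) }
    let e := MonoidHom.ofInjective hfS
    refine ⟨(e.symm.trans α).trans e, fun x => ?_⟩
    have he : e x = ⟨fS x, x, rfl⟩ := Subtype.ext rfl
    rw [← he, MulEquiv.trans_apply, MulEquiv.trans_apply, e.symm_apply_apply]
    exact Subtype.ext rfl
  have hnotout : ¬ Nat.card (Cfsg.Out ↥T) = 1 := by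
    intro hout
    obtain ⟨β, hβ⟩ := hconjS
    obtain ⟨⟨c, x0, rfl⟩, hc⟩ := Pgl.inner_of_out hout β
    have hcent : (x0 : G)⁻¹ * i ∈ U := by
      rw [← hCU]
      refine Subgroup.mem_centralizer_iff.2 fun w hw => ?_
      obtain ⟨k, rfl⟩ := Subgroup.mem_zpowers_iff.1 hw
      have h1 := (hβ ⟨u, huS⟩).symm.trans (hc _)
      have h2 : fS ⟨i * u * i, hSi huS⟩ = fS x0 * fS ⟨u, huS⟩ * (fS x0)⁻¹ := congrArg Subtype.val h1
      rw [← map_inv, ← map_mul, ← map_mul] at h2
      have h3 : i * u * i = (x0 : G) * u * (x0 : G)⁻¹ := congrArg Subtype.val (hfS h2)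
      have hc' : Commute ((x0 : G)⁻¹ * i) u := by
        show (x0 : G)⁻¹ * i * u = u * ((x0 : G)⁻¹ * i)
        calc (x0 : G)⁻¹ * i * u = (x0 : G)⁻¹ * (i * u * i) * i⁻¹ := by group
          _ = _ := by rw [h3, hi']; group
      exact (hc'.zpow_right k).eq.symm
    have := mul_mem (hmemS.1 x0.2).1 (hUN hcent)
    rw [mul_inv_cancel_left] at this
    exact hiN this
  have hT : T = projGrp := by
    rcases Pgl.overgroup hTM hTA with h | h | h | h
    · rw [h, card_affGrp] at hTc; omega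
    · exact h
    · refine absurd ?_ hnotout
      rw [h]; exact Cfsg.Agent.S2063.result
    · refine absurd ?_ hnotout
      rw [h]; exact Cfsg.Agent.S2064.result
  let θ : ↥projGrp →* G := (Sg.subtype.comp (MonoidHom.ofInjective hfS).symm.toMonoidHom).comp
    (MulEquiv.subgroupCongr hT.symm).toMonoidHom
  have hθS : ∀ x, θ x ∈ Sg := fun x => ((MonoidHom.ofInjective hfS).symm _).2
  have hθf : ∀ x, fS ⟨θ x, hθS x⟩ = (x : Equiv.Perm GolayPt) := fun x =>
    congrArg Subtype.val ((MonoidHom.ofInjective hfS).apply_symm_apply ((MulEquiv.subgroupCongr hT.symm) x))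
  have hθ : Function.Injective θ := fun x y h => Subtype.ext (by
    rw [← hθf x, ← hθf y]; exact congrArg fS (Subtype.ext h))
  let ρ : ↥projGrp →* Equiv.Perm GolayPt :=
    { toFun := fun x => fS ⟨i * θ x * i, hSi (hθS x)⟩
      map_one' := by
        rw [← map_one fS]; refine congrArg fS (Subtype.ext ?_)
        show i * θ 1 * i = 1
        rw [map_one, mul_one, hii]
      map_mul' := fun x y => by
        rw [← map_mul fS]; refine congrArg fS (Subtype.ext ?_)
        show i * θ (x * y) * i = i * θ x * i * (i * θ y * i)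
        rw [map_mul, show i * θ x * i * (i * θ y * i) = i * θ x * (i * i) * θ y * i by group, hii, mul_one]
        group }
  have hρgen : ∀ (x : Equiv.Perm GolayPt) (hx : x ∈ projGrp) (g : G) (hg : g ∈ Sg), fS ⟨g, hg⟩ = x →
      ρ ⟨x, hx⟩ = fS ⟨i * g * i, hSi hg⟩ := fun x hx g hg e => by
    refine congrArg fS (Subtype.ext ?_)
    show i * θ ⟨x, hx⟩ * i = i * g * i
    rw [show θ ⟨x, hx⟩ = g from congrArg Subtype.val (hfS ((hθf ⟨x, hx⟩).trans e.symm))]
  have ρt : ρ ⟨tr, Pgl.tr_mem_proj⟩ = tr⁻¹ := by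
    rw [hρgen _ _ u huS hfu, ← hfu, ← map_inv]
    exact congrArg fS (Subtype.ext hiu)
  have ρs : ρ ⟨Psl23Max.sq, Pgl.sq_mem_proj⟩ = Psl23Max.sq := by
    rw [hρgen _ _ s hsS hfs, ← hfs]
    exact congrArg fS (Subtype.ext his)
  have ρi : ρ ⟨permOf invP, Pgl.inv_mem_proj⟩ = permOf invP := by
    obtain ⟨r1, r2, r3⟩ := Pgl.proj_rels
    refine Pgl.image_inv (hT.le ⟨_, rfl⟩) ?_ ?_ ?_
    · rw [← map_mul, show (⟨permOf invP, Pgl.inv_mem_proj⟩ : ↥projGrp) * ⟨permOf invP, Pgl.inv_mem_proj⟩ = 1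
        from Subtype.ext r1, map_one]
    · have e := congrArg ρ (show (⟨permOf invP, Pgl.inv_mem_proj⟩ : ↥projGrp) * ⟨Psl23Max.sq, Pgl.sq_mem_proj⟩ *
        ⟨permOf invP, Pgl.inv_mem_proj⟩ = ⟨Psl23Max.sq, Pgl.sq_mem_proj⟩⁻¹ from Subtype.ext r2)
      rw [map_mul, map_mul, map_inv, ρs] at e
      exact e
    · rw [← ρt, ← map_mul, ← map_pow, show ((⟨tr, Pgl.tr_mem_proj⟩ : ↥projGrp) * ⟨permOf invP, Pgl.inv_mem_proj⟩) ^ 3
        = 1 from Subtype.ext r3, map_one]
  have hρ := Pgl.eq_conj ρ ρt ρs ρi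
  obtain ⟨K, ⟨eK⟩⟩ := Pgl.exists_extension θ hθ hii (fun x h => hiN (h ▸ (hmemS.1 (hθS x)).1))
    (fun x y hy => congrArg Subtype.val (hfS (a₁ := ⟨θ y, hθS y⟩) (a₂ := ⟨i * θ x * i, hSi (hθS x)⟩)
      (by rw [hθf, hy]; exact (hρ x).symm)))
  obtain ⟨eP⟩ := Pgl.extGrp_iso
  exact ⟨K, ⟨eK.trans eP⟩⟩

end Cfsg.Agent.Spor.JFour.Frame
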