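import Cfsg.Agent.Lib.Spor.Golay.M22Idx

/-!
Overgroups of the group 23:11 in the group of the length-24 code; the projective group of degree 24 over the
residues modulo 23 and its extension by the map `t ↦ -t`.
-/

set_option autoImplicit false
set_option maxRecDepth 100000
set_option Elab.async false
set_option linter.style.haveILetI false

open Cfsg Cfsg.Agent.Spor.Golay Cfsg.Agent.Spor.Golay.Census

namespace Cfsg.Agent.Spor.JFour.Pgl

open Psl23Max

theorem swap_check : get invP 0 = 23 ∧ get invP 23 = 0 ∧ comp invP (affP 1 0) = comp (affP 10 0) invP ∧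
    comp negP negP = idP ∧ comp negP (comp (affP 0 1) negP) = affP 0 22 ∧
    comp negP (comp (affP 1 0) negP) = affP 1 0 ∧ comp negP (comp invP negP) = invP ∧
    comp (comp (affP 0 1) invP) (comp (comp (affP 0 1) invP) (comp (affP 0 1) invP)) = idP ∧
    comp (affP 1 0) (affP 10 0) = idP ∧ comp (affP 0 1) (affP 0 22) = idP := by
  decide +kernel

theorem nL_check : (M22Idx.nL.all fun x => !(Nat.beq (comp (comp invP x) (comp invP x)) idP) ||
    (List.range 11).any fun k => Nat.beq (affP k 0) x) = true := by decide +kernel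

theorem image_check : ((List.range 24).all fun y => (List.range 11).all fun k => (List.range 23).all fun b =>
    !(Nat.beq (get (comp (repP y) (affP k b)) 0) 23 && (Nat.beq (get (comp (repP y) (affP k b)) 23) 0 &&
      Nat.beq (comp (comp (repP y) (affP k b)) (comp (repP y) (affP k b))) idP &&
      Nat.beq (comp (comp (affP 0 22) (comp (repP y) (affP k b)))
        (comp (comp (affP 0 22) (comp (repP y) (affP k b))) (comp (affP 0 22) (comp (repP y) (affP k b))))) idP)) ||
      Nat.beq (comp (repP y) (affP k b)) invP) = true := by decide +kernel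

attribute [local irreducible] affP repP negP comp

theorem sq_none : Psl23Max.sq none = (none : GolayPt) :=
  fix_none (aff_valid (by norm_num) (by norm_num)) (aff_checks.2.2.1 1 (by norm_num) 0 (by norm_num)).2.2

theorem sq_zero : Psl23Max.sq (pt 0) = pt 0 :=
  apply_pt (aff_valid (by norm_num) (by norm_num)) (by norm_num) (aff_checks.2.2.1 1 (by norm_num) 0 (by norm_num)).1

theorem sq_eleven : Psl23Max.sq ^ 11 = 1 := M22Idx.orderOf_sq ▸ pow_orderOf_eq_one _

theorem tr_pow (n : ℕ) : tr ^ n = permOf (affP 0 (n % 23)) := by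
  induction n with
  | zero => rw [pow_zero, Nat.zero_mod, aff_checks.2.2.2, permOf_idP]
  | succ n ih =>
    have e := (aff_checks.2.1 0 (by norm_num) (n % 23) (Nat.mod_lt _ (by norm_num))).1
    rw [Nat.mod_add_mod] at e
    rw [pow_succ', ih, ← e,
      permOf_comp (aff_valid (by norm_num) (by norm_num)) (aff_valid (by norm_num) (Nat.mod_lt _ (by norm_num)))]
    rfl

theorem tr_zero {b : ℕ} (hb : b < 23) : (tr ^ b) (pt 0) = pt b := by
  rw [tr_pow, Nat.mod_eq_of_lt hb]
  exact apply_pt (aff_valid (by norm_num) hb) (by norm_num) (aff_checks.2.2.1 0 (by norm_num) b hb).1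

theorem exists_mul_zero {p : GolayPt} (hp : p ≠ none) : ∃ a ∈ affGrp, a (pt 0) = p := by
  obtain ⟨b, hb, rfl⟩ : ∃ b < 24, pt b = p := ⟨idx p, idx_lt p, pt_idx p⟩
  have : b < 23 := by
    by_contra h
    exact hp (by rw [show b = 23 by omega, pt_last])
  exact ⟨tr ^ b, pow_mem (Subgroup.subset_closure (by simp)) _, tr_zero this⟩

/-- The elements of the affine group fixing the point zero. -/
theorem aff_stab {a : Equiv.Perm GolayPt} (ha : a ∈ affGrp) (h : a (pt 0) = pt 0) :
    ∃ k < 11, a = Psl23Max.sq ^ k := by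
  obtain ⟨k, hk, b, hb, rfl⟩ := exists_aff ha
  have e := congrArg idx h
  rw [idx_permOf (aff_valid hk hb), idx_pt (by norm_num), (aff_checks.2.2.1 k hk b hb).1] at e
  exact ⟨k, hk, by rw [M22Idx.sq_pow, Nat.mod_eq_of_lt hk, e]⟩

variable {T : Subgroup (Equiv.Perm GolayPt)}

set_option maxHeartbeats 1000000 in
/-- The overgroups of the affine group. -/
theorem overgroup (hT : T ≤ M24) (hA : affGrp ≤ T) :
    T = affGrp ∨ T = projGrp ∨ T = Spor.M23 ∨ T = M24 := by
  by_cases hfix : T ≤ Spor.M23
  · rcases affGrp_max hA hfix with h | h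
    · exact Or.inl h
    · exact Or.inr (Or.inr (Or.inl h))
  obtain ⟨t0, ht0, hmove⟩ : ∃ t ∈ T, t none ≠ (none : GolayPt) := by
    by_contra hc
    refine hfix fun t ht => mem_M23.2 ⟨hT ht, ?_⟩
    by_contra ht'
    exact hc ⟨t, ht, ht'⟩
  obtain ⟨a0, ha0, ea0⟩ := exists_mul_zero hmove
  -- an element exchanging the two points
  set t1 := a0⁻¹ * t0 with ht1def
  have ht1 : t1 ∈ T := mul_mem (inv_mem (hA ha0)) ht0
  have e1 : t1 none = pt 0 := by
    rw [ht1def, Equiv.Perm.mul_apply, ← ea0]; simp
  obtain ⟨a1, ha1, ea1⟩ := exists_mul_zero (p := t1⁻¹ none) (fun h => by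
    have h' := congrArg t1 h
    rw [show t1 (t1⁻¹ (none : GolayPt)) = none by simp, e1] at h'
    exact absurd h' (by decide +kernel))
  set w := t1 * a1 with hwdef
  have hw : w ∈ T := mul_mem ht1 (hA ha1)
  have w1 : w none = pt 0 := by rw [hwdef, Equiv.Perm.mul_apply, affGrp_none ha1, e1]
  have w2 : w (pt 0) = none := by rw [hwdef, Equiv.Perm.mul_apply, ea1]; simp
  rcases affGrp_max (le_inf hA affGrp_le : affGrp ≤ T ⊓ Spor.M23) inf_le_right with h | h
  · -- the stabiliser of the point is the affine group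
    refine Or.inr (Or.inl ?_)
    have hstab : ∀ g ∈ T, g none = none → g ∈ affGrp := fun g hg hn =>
      h ▸ Subgroup.mem_inf.2 ⟨hg, mem_M23.2 ⟨hT hg, hn⟩⟩
    have hpair : ∀ g ∈ T, g none = none → g (pt 0) = pt 0 → ∃ k < 11, g = Psl23Max.sq ^ k := fun g hg hn h0 =>
      aff_stab (hstab g hg hn) h0
    obtain ⟨k, hk, hk2⟩ := hpair (w * w) (mul_mem hw hw) (by rw [Equiv.Perm.mul_apply, w1, w2])
      (by rw [Equiv.Perm.mul_apply, w2, w1])
    set w' := w ^ 11 with hw'def
    have hw' : w' ∈ T := pow_mem hw _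
    have hw'2 : w' * w' = 1 := by
      rw [hw'def, ← pow_add, show 11 + 11 = 2 * 11 from rfl, pow_mul, pow_two, hk2, ← pow_mul, mul_comm k, pow_mul,
        sq_eleven, one_pow]
    have hw'e : w' = w * (Psl23Max.sq ^ k) ^ 5 := by
      rw [hw'def, ← hk2, show w * w = w ^ 2 from (pow_two w).symm, ← pow_mul, ← pow_succ']
    have hs5n : ((Psl23Max.sq ^ k) ^ 5) none = (none : GolayPt) := by
      rw [← pow_mul]
      generalize k * 5 = m
      induction m with
      | zero => rfl
      | succ m ih => rw [pow_succ, Equiv.Perm.mul_apply, sq_none, ih]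
    have hs50 : ((Psl23Max.sq ^ k) ^ 5) (pt 0) = pt 0 := by
      rw [← pow_mul]
      generalize k * 5 = m
      induction m with
      | zero => rfl
      | succ m ih => rw [pow_succ, Equiv.Perm.mul_apply, sq_zero, ih]
    have w1' : w' none = pt 0 := by rw [hw'e, Equiv.Perm.mul_apply, hs5n, w1]
    have w2' : w' (pt 0) = none := by rw [hw'e, Equiv.Perm.mul_apply, hs50, w2]
    obtain ⟨-, hinv0, hinv23, -⟩ := inv_checks
    obtain ⟨c0, c23, cinv, -, -, -, -, -, csq, -⟩ := swap_check
    have vI := inv_valid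
    have i1 : permOf invP none = pt 0 := by
      rw [← pt_last]; exact apply_pt vI (by norm_num) c23
    have i2 : permOf invP (pt 0) = none := by
      rw [← pt_last]; exact apply_pt vI (by norm_num) c0
    set x := permOf invP * w' with hxdef
    have hxM : x ∈ M24 := mul_mem (permOf_mem_M24 inv_checks.1) (hT hw')
    have hx22 : x ∈ Spor.M22 := M22Idx.mem_M22.2 ⟨hxM, by rw [hxdef, Equiv.Perm.mul_apply, w1', i2],
      by rw [hxdef, Equiv.Perm.mul_apply, w2', i1]⟩
    obtain ⟨l, hl, hl2⟩ := hpair (w' * Psl23Max.sq * w')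
      (mul_mem (mul_mem hw' (hA (Subgroup.subset_closure (by simp)))) hw')
      (by rw [Equiv.Perm.mul_apply, Equiv.Perm.mul_apply, w1', sq_zero, w2'])
      (by rw [Equiv.Perm.mul_apply, Equiv.Perm.mul_apply, w2', sq_none, w1'])
    have hinvinv : permOf invP * permOf invP = 1 := by rw [← permOf_comp vI vI, hinv0, permOf_idP]
    have hs10 : permOf (affP 10 0) = Psl23Max.sq ^ 10 := by rw [M22Idx.sq_pow]
    have hisq : permOf invP * Psl23Max.sq * permOf invP = Psl23Max.sq ^ 10 := by
      rw [show Psl23Max.sq = permOf (affP 1 0) from rfl, ← permOf_comp vI (aff_valid (by norm_num) (by norm_num)), cinv,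
        permOf_comp (aff_valid (by norm_num) (by norm_num)) vI, mul_assoc, hinvinv, mul_one, hs10]
      rfl
    have hconj : x⁻¹ * Psl23Max.sq * x = permOf (affP (l * 10 % 11) 0) := by
      have hw'i : w'⁻¹ = w' := inv_eq_of_mul_eq_one_right hw'2
      have hpow : w' * Psl23Max.sq ^ 10 * w' = (w' * Psl23Max.sq * w') ^ 10 := by
        have := (conj_pow (a := w') (b := Psl23Max.sq) (i := 10)).symm
        rwa [hw'i] at this
      rw [hxdef, mul_inv_rev, inv_eq_of_mul_eq_one_right hinvinv, hw'i,
        show w' * permOf invP * Psl23Max.sq * (permOf invP * w') = w' * (permOf invP * Psl23Max.sq * permOf invP) * w' by group,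
        hisq, hpow, hl2, ← pow_mul, M22Idx.sq_pow]
    obtain ⟨y, hy, hyv, hye⟩ := M22Idx.exists_nL (M22Idx.mem_of_conj hx22 (Nat.mod_lt _ (by norm_num)) hconj)
    have hn := nL_check
    simp only [List.all_eq_true, Bool.or_eq_true, List.any_eq_true, List.mem_range, Bool.not_eq_true'] at hn
    obtain ⟨j, hj, hje⟩ : ∃ j < 11, permOf (affP j 0) = x := by
      rcases hn y hy with h' | ⟨j, hj, h'⟩
      · exfalso
        have : comp (comp invP y) (comp invP y) = idP := by
          refine M22Idx.comp_inj (valid_comp vI hyv) (valid_comp vI hyv) valid_idP valid_idP ?_ |>.trans ?_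
          · rw [permOf_comp vI hyv, hye, show permOf invP * x = w' by rw [hxdef, ← mul_assoc, hinvinv, one_mul],
              hw'2, permOf_idP, one_mul]
          · decide +kernel
        rw [this] at h'
        simp at h'
      · exact ⟨j, hj, by rw [Nat.eq_of_beq_eq_true h', hye]⟩
    have hinvT : permOf invP ∈ T := by
      have hwx : permOf invP * x = w' := by rw [hxdef, ← mul_assoc, hinvinv, one_mul]
      have : permOf invP = w' * x⁻¹ := by rw [← hwx, mul_inv_cancel_right]
      rw [this]
      exact mul_mem hw' (inv_mem (hje ▸ hA (aff_mem hj (by norm_num))))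
    have hle : projGrp ≤ T := (Subgroup.closure_le _).2 (by
      rintro g (rfl | rfl | rfl)
      · exact hA (Subgroup.subset_closure (by simp))
      · exact hA (Subgroup.subset_closure (by simp))
      · exact hinvT)
    rcases projGrp_max hle hT with h' | h'
    · exact h'
    · exfalso
      have h23 : Spor.M23 ≤ affGrp := h ▸ le_inf (h' ▸ inf_le_left) le_rfl
      exact top_not_aff.2 (h23 top_not_aff.1)
  · -- the stabiliser of the point is everything
    refine Or.inr (Or.inr (Or.inr (le_antisymm hT fun g hg => ?_)))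
    have h23 : Spor.M23 ≤ T := fun u hu => ((h.symm ▸ hu : u ∈ T ⊓ Spor.M23)).1
    by_cases hgn : g none = none
    · exact h23 (mem_M23.2 ⟨hg, hgn⟩)
    obtain ⟨a, ha, ea⟩ := exists_mul_zero hgn
    have hin : (a * w)⁻¹ * g ∈ Spor.M23 := mem_M23.2 ⟨mul_mem (inv_mem (mul_mem (affGrp_le ha).1 (hT hw))) hg, by
      rw [Equiv.Perm.mul_apply, ← ea, mul_inv_rev, Equiv.Perm.mul_apply]
      rw [show a⁻¹ (a (pt 0)) = pt 0 by simp, ← w1]
      simp⟩
    have h3 := mul_mem (mul_mem (hA ha) hw) (h23 hin)
    rwa [mul_inv_cancel_left] at h3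

/-- The image of the third generator is determined. -/
theorem image_inv {β : Equiv.Perm GolayPt} (hβ : β ∈ projGrp) (h2 : β * β = 1) (hs : β * Psl23Max.sq * β = Psl23Max.sq⁻¹)
    (h3 : (tr⁻¹ * β) ^ 3 = 1) : β = permOf invP := by
  have hβi : β⁻¹ = β := inv_eq_of_mul_eq_one_right h2
  -- it exchanges or fixes the two points fixed by the element of order eleven
  have hcomm : Psl23Max.sq * β = β * Psl23Max.sq⁻¹ := by
    rw [← hs, ← mul_assoc, ← mul_assoc, h2, one_mul]
  have hfix : ∀ p : GolayPt, Psl23Max.sq p = p → p = none ∨ p = pt 0 := by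
    have hall : ∀ i < 23, i ≠ 0 → get (affP 1 0) i ≠ i := by decide +kernel
    intro p hp
    have e := congrArg idx hp
    rw [show Psl23Max.sq = permOf (affP 1 0) from rfl, idx_permOf (aff_valid (by norm_num) (by norm_num))] at e
    by_cases h : idx p = 23
    · left; rw [← pt_idx p, h, pt_last]
    · right
      by_cases h0 : idx p = 0
      · rw [← pt_idx p, h0]
      · exact absurd e (hall _ (by have := idx_lt p; omega) h0)
  have hb : ∀ p : GolayPt, Psl23Max.sq p = p → β p = none ∨ β p = pt 0 := fun p hp => by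
    refine hfix _ ?_
    have h1 := congrArg (fun q : Equiv.Perm GolayPt => q p) hcomm
    simp only [Equiv.Perm.mul_apply] at h1
    rwa [show (Psl23Max.sq⁻¹) p = p from Equiv.Perm.inv_eq_iff_eq.2 hp.symm] at h1
  have hne : β none ≠ none := fun hn => by
    obtain ⟨k, hk, b, hbb, e⟩ := exists_aff (stab_proj hβ hn)
    have h0 : β (pt 0) = pt 0 := by
      rcases hb _ sq_zero with h | h
      · have := β.injective (h.trans hn.symm)
        exact absurd this (by decide +kernel)
      · exact h
    obtain ⟨j, hj, e'⟩ := aff_stab (stab_proj hβ hn) h0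
    rw [e'] at hs
    have : Psl23Max.sq ^ (2 * j + 2) = 1 := by
      have h := congrArg (· * Psl23Max.sq) hs
      simp only [inv_mul_cancel] at h
      rw [← pow_succ, ← pow_add, ← pow_succ] at h
      rw [← h]; congr 1; omega
    have hd := orderOf_dvd_of_pow_eq_one this
    rw [M22Idx.orderOf_sq] at hd
    have hj10 : j = 10 := by omega
    rw [e', hj10] at h2
    rw [← pow_add] at h2
    have hd2 := orderOf_dvd_of_pow_eq_one h2
    rw [M22Idx.orderOf_sq] at hd2
    norm_num at hd2
  have b1 : β none = pt 0 := (hb _ sq_none).resolve_left hne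
  have b2 : β (pt 0) = none := by
    rw [← b1, ← Equiv.Perm.mul_apply, h2, Equiv.Perm.one_apply]
  obtain ⟨y, hy, b, hbm, rfl⟩ := exists_coset hβ
  obtain ⟨k, hk, c, hc, rfl⟩ := exists_aff hbm
  have vR := (inv_checks.2.2.2 y hy).1
  have vA := aff_valid hk hc
  have vP := valid_comp vR vA
  have eP : permOf (comp (repP y) (affP k c)) = permOf (repP y) * permOf (affP k c) := permOf_comp vR vA
  rw [← eP] at b1 b2 h2 h3 ⊢
  have v22 := aff_valid (k := 0) (b := 22) (by norm_num) (by norm_num)
  have htr : tr⁻¹ = permOf (affP 0 22) := inv_eq_of_mul_eq_one_right (by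
    rw [tr, ← permOf_comp (aff_valid (by norm_num) (by norm_num)) v22, swap_check.2.2.2.2.2.2.2.2.2, permOf_idP])
  have h := image_check
  simp only [List.all_eq_true, List.mem_range, Bool.or_eq_true, Bool.not_eq_true'] at h
  rcases h y hy k hk c hc with h | h
  · exfalso
    refine absurd h ?_
    simp only [Bool.not_eq_false, Bool.and_eq_true, Nat.beq_eq]
    refine ⟨?_, ⟨?_, ?_⟩, ?_⟩
    · have e := congrArg idx b2
      rw [idx_permOf vP, idx_pt (by norm_num)] at e
      rw [e]; rfl
    · have e := congrArg idx b1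
      rw [← pt_last, idx_permOf vP, idx_pt (by norm_num), idx_pt (by norm_num)] at e
      exact e
    · exact (M22Idx.comp_inj vP vP valid_idP valid_idP (by rw [h2, permOf_idP, one_mul])).trans (by decide +kernel)
    · have vQ := valid_comp v22 vP
      refine (M22Idx.comp_inj vQ (valid_comp vQ vQ) valid_idP valid_idP ?_).trans (by decide +kernel)
      rw [permOf_comp vQ vQ, permOf_comp v22 vP, ← htr, permOf_idP, one_mul, ← h3]
      simp only [pow_succ, pow_zero, one_mul, mul_assoc]
  · rw [Nat.eq_of_beq_eq_true h]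

end Cfsg.Agent.Spor.JFour.Pgl
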